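import Groth.Agent.Lib.LCStrict50.Const
import Groth.Agent.Lib.LocAcyc50.Sect
import Groth.Agent.H88.EtMod.CohColimL
import Groth.Agent.H61.HpullFunct
import Mathlib.GroupTheory.FiniteAbelian.Basic
import Mathlib.CategoryTheory.Limits.Types.Filtered

/-!
# Pullback on cohomology of constant torsion sheaves on strictly local schemes
-/

set_option autoImplicit false
set_option linter.style.haveILetI false
set_option backward.isDefEq.respectTransparency false

universe u

open CategoryTheory CategoryTheory.Limits AlgebraicGeometry Opposite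

noncomputable section

namespace Groth.Agent.Lib.LCStrict50.Bij

open Groth.Agent.Lib.EtSite Groth.Agent.Lib.EtSite.Basic Groth.Agent.Lib.EtGerm.Basic Const
open Groth.Agent.Lib.EtJ Groth.Agent.Lib.LocAcyc50.Sect

variable {W T : Scheme.{u}} (a : W ⟶ T) [PreservesFiniteLimits (EtCoh.pull a)]

/-- Pullback is bijective in degree `q`. -/
abbrev P (G : EtCoh.Ab T) (q : ℕ) : Prop := Function.Bijective (EtCore.Hpull a G q)

theorem natural {G G' : EtCoh.Ab T} (φ : G ⟶ G') (q : ℕ) (e : EtCoh.H T G q) :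
    EtCore.Hpull a G' q (Sheaf.H.map φ q e) = Sheaf.H.map ((EtCoh.pull a).map φ) q (EtCore.Hpull a G q e) :=
  H61.HpullFunct.Hpull_map φ q e

/-- Closure under finite sums and retracts. -/
theorem of_sum {G : EtCoh.Ab T} {ι : Type*} [Fintype ι] {Gi : ι → EtCoh.Ab T} (π : ∀ i, G ⟶ Gi i)
    (σ : ∀ i, Gi i ⟶ G) (h : ∑ i, π i ≫ σ i = 𝟙 G) (q : ℕ) (hP : ∀ i, P a (Gi i) q) : P a G q := by
  classical
  let Φ : (G ⟶ G) → EtCoh.H T G q → EtCoh.H T G q := fun f x => Sheaf.H.map f q x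
  have key : ∀ {Z : Scheme.{u}} {H₁ H₂ : EtCoh.Ab Z} (f : ι → (H₁ ⟶ H₂)) (x : EtCoh.H Z H₁ q),
      Sheaf.H.map (∑ i, f i) q x = ∑ i, Sheaf.H.map (f i) q x := by
    intro Z H₁ H₂ f x
    exact map_sum (AddMonoidHom.mk' (fun g : H₁ ⟶ H₂ => (Sheaf.H.map g q x : EtCoh.H Z H₂ q))
      (fun g g' => Sheaf.H.map_add_apply g g' x)) f Finset.univ
  refine ⟨(injective_iff_map_eq_zero _).2 fun x hx => ?_, fun y => ?_⟩
  · have hx' : x = Sheaf.H.map (∑ i, π i ≫ σ i) q x := by rw [h, Sheaf.H.map_id_apply]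
    rw [hx', key]
    refine Finset.sum_eq_zero fun i _ => ?_
    rw [Sheaf.H.map_comp_apply]
    have : Sheaf.H.map (π i) q x = 0 := (hP i).1 (by rw [natural, hx, map_zero, map_zero])
    rw [this, map_zero]
  · choose x hx using fun i => (hP i).2 (Sheaf.H.map ((EtCoh.pull a).map (π i)) q y)
    refine ⟨∑ i, Sheaf.H.map (σ i) q (x i), ?_⟩
    rw [map_sum]
    have hy : y = Sheaf.H.map ((EtCoh.pull a).map (∑ i, π i ≫ σ i)) q y := by
      rw [h, CategoryTheory.Functor.map_id, Sheaf.H.map_id_apply]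
    conv_rhs => rw [hy, Functor.map_sum, key]
    refine Finset.sum_congr rfl fun i _ => ?_
    rw [natural, hx, Functor.map_comp, Sheaf.H.map_comp_apply]

theorem of_iso {G G' : EtCoh.Ab T} (e : G ≅ G') (q : ℕ) (h : P a G q) : P a G' q :=
  of_sum a (ι := PUnit.{1}) (fun _ => e.inv) (fun _ => e.hom) (by simp) q (fun _ => h)

/-- Closure under filtered colimits. -/
theorem of_colimit [CompactSpace T] [QuasiSeparatedSpace T] [CompactSpace W] [QuasiSeparatedSpace W]
    {J : Type (u + 1)} [SmallCategory J] [IsFiltered J] (D : J ⥤ EtCoh.Ab T) (q : ℕ)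
    (hD : ∀ j, P a (D.obj j) q) : P a (colimit D) q := by
  haveI : PreservesColimitsOfShape J (EtCoh.pull a) :=
    (EtCoh.pullPushAdj a).leftAdjoint_preservesColimits.preservesColimitsOfShape
  let η := preservesColimitIso (EtCoh.pull a) D
  have hη : ∀ j, (EtCoh.pull a).map (colimit.ι D j) = colimit.ι (D ⋙ EtCoh.pull a) j ≫ η.inv := fun j => by
    rw [Iso.eq_comp_inv]
    exact ι_preservesColimitIso_hom (EtCoh.pull a) D j
  obtain ⟨hTs, -⟩ := Groth.Agent.H88.EtMod.CohColimL.good D q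
  obtain ⟨hWs, hWi⟩ := Groth.Agent.H88.EtMod.CohColimL.good (D ⋙ EtCoh.pull a) q
  refine ⟨(injective_iff_map_eq_zero _).2 fun x hx => ?_, fun y => ?_⟩
  · obtain ⟨j, x', rfl⟩ := hTs x
    rw [natural, hη, Sheaf.H.map_comp_apply] at hx
    have h0 : Sheaf.H.map (colimit.ι (D ⋙ EtCoh.pull a) j) q (EtCore.Hpull a (D.obj j) q x') = 0 := by
      have := congrArg (Sheaf.H.map η.hom q) hx
      rwa [← Sheaf.H.map_comp_apply, Iso.inv_hom_id, Sheaf.H.map_id_apply, map_zero] at this
    obtain ⟨k, f, hf⟩ := hWi j _ h0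
    have h1 : Sheaf.H.map (D.map f) q x' = 0 := (hD k).1 (by rw [natural, map_zero]; exact hf)
    rw [← colimit.w D f, Sheaf.H.map_comp_apply, h1, map_zero]
  · obtain ⟨j, z, hz⟩ := hWs (Sheaf.H.map η.hom q y)
    obtain ⟨x, rfl⟩ := (hD j).2 z
    refine ⟨Sheaf.H.map (colimit.ι D j) q x, ?_⟩
    rw [natural, hη, Sheaf.H.map_comp_apply]
    refine (congrArg (Sheaf.H.map η.inv q) hz).trans ?_
    rw [← Sheaf.H.map_comp_apply, Iso.hom_inv_id, Sheaf.H.map_id_apply]

/-- Elements of degree zero as sections. -/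
def e0 (Z : Scheme.{u}) (G : EtCoh.Ab Z) (s : EtCoh.sect G (EtCoh.top Z)) : EtCoh.H Z G 0 :=
  Abelian.Ext.mk₀ ((PullSec.elem Z G).symm s)

theorem e0_bijective (Z : Scheme.{u}) (G : EtCoh.Ab Z) : Function.Bijective (e0 Z G) :=
  (Abelian.Ext.mk₀_bijective _ _).comp (PullSec.elem Z G).symm.bijective

theorem e0_gtop (G : EtCoh.Ab T) (s : EtCoh.sect G (EtCoh.top T)) :
    e0 W ((EtCoh.pull a).obj G) (gtop a G s) = EtCore.Hpull a G 0 (e0 T G s) := by
  change Abelian.Ext.mk₀ _ = (Abelian.Ext.mk₀ (EtCore.pullConst a ℤ).inv).comp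
    ((Abelian.Ext.mk₀ ((PullSec.elem T G).symm s)).mapExactFunctor (EtCoh.pull a)) (zero_add 0)
  rw [Abelian.Ext.mapExactFunctor_mk₀, Abelian.Ext.mk₀_comp_mk₀]
  refine congrArg Abelian.Ext.mk₀ ((PullSec.elem W _).injective ?_)
  rw [AddEquiv.apply_symm_apply, PullSec.elem_pull, AddEquiv.apply_symm_apply, gtop_eq_pullSec]

omit [PreservesFiniteLimits (EtCoh.pull a)] in
theorem germ_eq_zero_of_gtop (G : EtCoh.Ab T) (s : EtCoh.sect G (EtCoh.top T)) (hs : gtop a G s = 0)
    {K : Type u} [Field K] [IsSepClosed K] (η : Spec (CommRingCat.of K) ⟶ W)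
    (p : (Scheme.pointSmallEtale (η ≫ a)).fiber.obj (EtCoh.top T)) :
    germ G (η ≫ a) (EtCoh.top T) p s = 0 := by
  have h0 : HensClosed.unitAt a G (EtCoh.top T) s = 0 := by
    let l := lft a (EtCoh.top T) a (Category.comp_id a)
    let r : (EtCoh.bc a).obj (EtCoh.top T) ⟶ EtCoh.top W := (EtCore.topIsTerminal W).from _
    have h := congrArg (((EtCoh.pull a).obj G).obj.map r.op) (show
      ((EtCoh.pull a).obj G).obj.map l.op (HensClosed.unitAt a G (EtCoh.top T) s) = 0 from hs)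
    rw [map_zero, ← ConcreteCategory.comp_apply, ← Functor.map_comp, ← op_comp,
      (EtCore.bcTopIsTerminal a).hom_ext (r ≫ l) (𝟙 _), op_id, CategoryTheory.Functor.map_id] at h
    exact h
  refine (HensClosed.unitStalk_injective a η G).1 ((HensClosed.unitStalk_germ a η G _ p s).trans ?_)
  rw [h0, map_zero, map_zero]

/-- Cohomology of degree zero on nonempty schemes detects constants. -/
theorem gtop_csec_injective (M : AddCommGrpCat.{u + 1}) [Nonempty W] (m : M)
    (hm : gtop a (cst T M) (csec M (EtCoh.top T) m) = 0) : m = 0 := by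
  obtain ⟨w⟩ := ‹Nonempty W›
  obtain ⟨p, -⟩ := exists_fiber (geomPoint W w ≫ a) (EtCoh.top T) (a.base w)
    (show a.base w = (geomPoint W w ≫ a).base default by
      rw [Scheme.Hom.comp_apply, geomPoint_apply])
  exact eq_zero_of_germ_csec M _ _ p m (germ_eq_zero_of_gtop a _ _ hm (geomPoint W w) p)

/-- Finite subgroups. -/
abbrev Fin' (M : Type (u + 1)) [AddCommGroup M] : Type (u + 1) := {H : AddSubgroup M // Finite H}

/-- The diagram of finite subgroups. -/
def diag (M : Type (u + 1)) [AddCommGroup M] : Fin' M ⥤ AddCommGrpCat.{u + 1} where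
  obj H := AddCommGrpCat.of H.1
  map f := AddCommGrpCat.ofHom (AddSubgroup.inclusion (leOfHom f))

/-- The cocone of finite subgroups. -/
def cocone (M : Type (u + 1)) [AddCommGroup M] : Cocone (diag M) where
  pt := AddCommGrpCat.of M
  ι := { app := fun H => AddCommGrpCat.ofHom H.1.subtype }

theorem nonempty_isColimit (M : Type (u + 1)) [AddCommGroup M] (hM : ∀ m : M, IsOfFinAddOrder m) :
    IsFiltered (Fin' M) ∧ Nonempty (IsColimit (cocone M)) := by
  haveI : Nonempty (Fin' M) := ⟨⟨⊥, inferInstance⟩⟩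
  haveI : IsDirectedOrder (Fin' M) := ⟨fun H K => by
    haveI := H.2
    haveI := K.2
    refine ⟨⟨H.1 ⊔ K.1, Finite.of_surjective (fun hk : H.1 × K.1 => (⟨hk.1.1 + hk.2.1,
      AddSubgroup.add_mem _ (AddSubgroup.mem_sup_left hk.1.2) (AddSubgroup.mem_sup_right hk.2.2)⟩ :
        ↥(H.1 ⊔ K.1))) fun x => ?_⟩, (le_sup_left : H.1 ≤ H.1 ⊔ K.1), (le_sup_right : K.1 ≤ H.1 ⊔ K.1)⟩
    obtain ⟨y, hy, z, hz, h⟩ := AddSubgroup.mem_sup.1 x.2
    exact ⟨(⟨y, hy⟩, ⟨z, hz⟩), Subtype.ext h⟩⟩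
  haveI : IsFiltered (Fin' M) := inferInstance
  haveI : PreservesFilteredColimitsOfSize.{u + 1, u + 1} (forget AddCommGrpCat.{u + 1}) := inferInstance
  haveI : ReflectsColimitsOfShape (Fin' M) (forget AddCommGrpCat.{u + 1}) :=
    reflectsColimitsOfShape_of_reflectsIsomorphisms
  refine ⟨inferInstance, ⟨isColimitOfReflects (forget AddCommGrpCat.{u + 1})
    (Types.FilteredColimit.isColimitOf' _ _ (fun x => ?_) (fun H x y h => ⟨H, 𝟙 H, ?_⟩))⟩⟩
  · haveI : Finite (AddSubgroup.zmultiples (show M from x)) := finite_zmultiples.2 (hM x)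
    exact ⟨⟨AddSubgroup.zmultiples (show M from x), inferInstance⟩,
      ⟨x, AddSubgroup.mem_zmultiples _⟩, rfl⟩
  · exact congrArg _ (Subtype.ext h)

section strict

variable (R : Type u) [CommRing R] [IsLocalRing R] [HenselianLocalRing R]
  [IsSepClosed (IsLocalRing.ResidueField R)]
  {W : Scheme.{u}} (a : W ⟶ Spec (CommRingCat.of R)) [PreservesFiniteLimits (EtCoh.pull a)]
  [CompactSpace W] [QuasiSeparatedSpace W]

omit [CompactSpace W] [QuasiSeparatedSpace W] in
/-- The basic case `ℤ/n`. -/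
theorem P_zmod (n : ℕ) (hn : 1 < n) (hpos : ∀ q, 0 < q → Subsingleton (EtCoh.H W (EtCoh.const W (ZMod n)) q))
    (h0 : Nonempty (EtCoh.H W (EtCoh.const W (ZMod n)) 0 ≃+ ZMod n)) (q : ℕ) :
    P a (EtCoh.const (Spec (CommRingCat.of R)) (ZMod n)) q := by
  let E := fun q => ((EtCoh.HF W q).mapIso (EtCore.pullConst a (ZMod n))).addCommGroupIsoToAddEquiv
  obtain _ | q := q
  swap
  · haveI := StrictHens.H_subsingleton R (EtCoh.const (Spec (CommRingCat.of R)) (ZMod n)) (q + 1) q.succ_pos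
    haveI : Subsingleton ((EtCoh.HF W (q + 1)).obj (EtCoh.const W (ZMod n))) := hpos (q + 1) q.succ_pos
    haveI : Subsingleton (EtCoh.H W ((EtCoh.pull a).obj (EtCoh.const _ (ZMod n))) (q + 1)) :=
      (E (q + 1)).toEquiv.subsingleton
    exact ⟨fun x y _ => Subsingleton.elim x y, fun y => ⟨0, Subsingleton.elim _ _⟩⟩
  obtain ⟨e⟩ := h0
  haveI : NeZero n := ⟨by omega⟩
  haveI hW : Nonempty W := by
    by_contra hne
    haveI : IsEmpty W := not_nonempty_iff.1 hne
    haveI : Subsingleton (EtCoh.sect (EtCoh.const W (ZMod n)) (EtCoh.top W)) :=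
      ⟨fun s t => Stalk.sections_ext_of_germ _ s t (fun x => isEmptyElim (α := W) x)⟩
    haveI : Subsingleton (EtCoh.H W (EtCoh.const W (ZMod n)) 0) :=
      (e0_bijective W _).2.subsingleton
    haveI : Nontrivial (ZMod n) := ZMod.nontrivial_iff.2 (by omega)
    exact not_subsingleton (ZMod n) e.symm.toEquiv.subsingleton
  let M := AddCommGrpCat.of (ULift.{u + 1} (ZMod n))
  let c : M → EtCoh.H (Spec (CommRingCat.of R)) (EtCoh.const _ (ZMod n)) 0 :=
    e0 (Spec (CommRingCat.of R)) (cst _ M) ∘ csec M (EtCoh.top _)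
  have hc : Function.Bijective c := (e0_bijective _ _).comp (csec_bijective R M)
  have hinj : Function.Injective (EtCore.Hpull a (EtCoh.const (Spec (CommRingCat.of R)) (ZMod n)) 0) := by
    refine (injective_iff_map_eq_zero _).2 fun x hx => ?_
    obtain ⟨m, rfl⟩ := hc.2 x
    have h1 : gtop a (cst _ M) (csec M (EtCoh.top _) m) = 0 := by
      apply (e0_bijective W _).1
      rw [e0_gtop]
      exact hx.trans (by unfold e0; rw [map_zero, Abelian.Ext.mk₀_zero])
    rw [gtop_csec_injective a M m h1]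
    simp only [c, Function.comp_apply]
    unfold e0
    rw [map_zero, map_zero, Abelian.Ext.mk₀_zero]
  let eT : EtCoh.H W ((EtCoh.pull a).obj (EtCoh.const (Spec (CommRingCat.of R)) (ZMod n))) 0 ≃ ZMod n :=
    ((E 0).trans e).toEquiv
  haveI : Finite (EtCoh.H W ((EtCoh.pull a).obj (EtCoh.const (Spec (CommRingCat.of R)) (ZMod n))) 0) :=
    Finite.of_equiv _ eT.symm
  refine hinj.bijective_of_nat_card_le ?_
  rw [Nat.card_congr eT, ← Nat.card_congr (Equiv.ofBijective c hc)]
  exact le_of_eq (Nat.card_congr Equiv.ulift).symm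

variable (hyp : ∀ n : ℕ, (n : IsLocalRing.ResidueField R) ≠ 0 →
    (∀ q, 0 < q → Subsingleton (EtCoh.H W (EtCoh.const W (ZMod n)) q)) ∧
      Nonempty (EtCoh.H W (EtCoh.const W (ZMod n)) 0 ≃+ ZMod n))

/-- Killed elementwise by integers invertible on `R`. -/
def Tors (M : Type (u + 1)) [AddCommGroup M] : Prop :=
  ∀ m : M, ∃ k : ℕ, 0 < k ∧ (k : IsLocalRing.ResidueField R) ≠ 0 ∧ k • m = 0

omit [CompactSpace W] [QuasiSeparatedSpace W] in
include hyp in
theorem P_finite (M : Type (u + 1)) [AddCommGroup M] [Finite M] (hM : Tors R M) (q : ℕ) :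
    P a (cst _ (AddCommGrpCat.of M)) q := by
  classical
  obtain ⟨ι, _, n, hn, ⟨e⟩⟩ := AddCommGroup.equiv_directSum_zmod_of_finite' M
  let A := fun i => AddCommGrpCat.of (ULift.{u + 1} (ZMod (n i)))
  let π : ∀ i, AddCommGrpCat.of M ⟶ A i := fun i => AddCommGrpCat.ofHom
    (AddEquiv.ulift.symm.toAddMonoidHom.comp ((DFinsupp.evalAddMonoidHom i).comp e.toAddMonoidHom))
  let σ : ∀ i, A i ⟶ AddCommGrpCat.of M := fun i => AddCommGrpCat.ofHom
    (e.symm.toAddMonoidHom.comp ((DirectSum.of (fun i => ZMod (n i)) i).comp AddEquiv.ulift.toAddMonoidHom))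
  let L := constantSheaf (Spec (CommRingCat.of R)).smallEtaleTopology AddCommGrpCat.{u + 1}
  haveI : (EtCore.gsec (Spec (CommRingCat.of R))).Additive := ⟨fun {_ _ _ _} => rfl⟩
  haveI : L.Additive := (EtCore.constAdj _).left_adjoint_additive
  have hsum : ∑ i, π i ≫ σ i = 𝟙 (AddCommGrpCat.of M) := by
    ext m
    have h1 : ∀ (f : ι → (AddCommGrpCat.of M ⟶ AddCommGrpCat.of M)),
        (∑ i, f i).hom m = ∑ i, (f i).hom m := fun f =>
      map_sum (AddMonoidHom.mk' (fun g : AddCommGrpCat.of M ⟶ AddCommGrpCat.of M => g.hom m)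
        (fun _ _ => rfl)) f Finset.univ
    refine (h1 _).trans ?_
    change ∑ i, e.symm (DirectSum.of (fun i => ZMod (n i)) i (e m i)) = m
    rw [← map_sum, DirectSum.sum_univ_of, e.symm_apply_apply]
  refine of_sum a (fun i => L.map (π i)) (fun i => L.map (σ i)) ?_ q fun i => ?_
  · simp only [← Functor.map_comp, ← Functor.map_sum, hsum]
    exact L.map_id _
  · have hni : (n i : IsLocalRing.ResidueField R) ≠ 0 := by
      obtain ⟨k, -, hk, hkill⟩ := hM ((σ i).hom ⟨1⟩)
      have h2 : (n i) ∣ k := by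
        have h3 := congrArg (fun m => (e m) i) hkill
        change (e (k • e.symm (DirectSum.of (fun i => ZMod (n i)) i 1))) i = (e 0) i at h3
        rw [map_nsmul, e.apply_symm_apply, ← map_nsmul, map_zero, DirectSum.of_eq_same] at h3
        exact (ZMod.natCast_eq_zero_iff _ _).1 (by simpa [nsmul_eq_mul] using h3)
      obtain ⟨c, rfl⟩ := h2
      exact fun h => hk (by rw [Nat.cast_mul, h, zero_mul])
    exact P_zmod R a (n i) (hn i) (hyp _ hni).1 (hyp _ hni).2 q

include hyp in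
theorem P_torsion (M : Type (u + 1)) [AddCommGroup M] (hM : Tors R M) (q : ℕ) :
    P a (cst _ (AddCommGrpCat.of M)) q := by
  obtain ⟨hfil, ⟨hc⟩⟩ := nonempty_isColimit M fun m => by
    obtain ⟨k, hk, -, h⟩ := hM m
    exact isOfFinAddOrder_iff_nsmul_eq_zero.2 ⟨k, hk, h⟩
  let L := constantSheaf (Spec (CommRingCat.of R)).smallEtaleTopology AddCommGrpCat.{u + 1}
  haveI : PreservesColimitsOfShape (Fin' M) L :=
    (EtCore.constAdj _).leftAdjoint_preservesColimits.preservesColimitsOfShape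
  refine of_iso a ((colimit.isColimit _).coconePointUniqueUpToIso (isColimitOfPreserves L hc)) q
    (of_colimit a (diag M ⋙ L) q fun H => ?_)
  haveI := H.2
  exact P_finite R a hyp H.1 (fun m => by
    obtain ⟨k, hk, hk', h⟩ := hM m.1
    exact ⟨k, hk, hk', Subtype.ext h⟩) q

end strict

end Groth.Agent.Lib.LCStrict50.Bij
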