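import Groth.Agent.Lib.EtSite.StrictHens
import Groth.Agent.Lib.EtGerm.Basic
import Groth.Agent.H88.EtMod.LocConst
import Groth.Agent.Lib.EtSite.HensClosed
import Groth.Prelude.Def_EtRestW
import Groth.Prelude.Def_EtCore
import Mathlib.CategoryTheory.Sites.LocallyBijective

/-!
# Locally constant sheaves over strictly henselian local schemes are constant
-/

set_option autoImplicit false
set_option linter.style.haveILetI false
set_option backward.isDefEq.respectTransparency false

universe u

open CategoryTheory CategoryTheory.Limits AlgebraicGeometry Opposite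

noncomputable section

namespace Groth.Agent.Lib.LCStrict50.Const

open Groth.Agent.Lib.EtSite Groth.Agent.Lib.EtSite.Basic Groth.Agent.Lib.EtGerm.Basic

variable {X : Scheme.{u}}

/-- The constant sheaf. -/
abbrev cst (X : Scheme.{u}) (M : AddCommGrpCat.{u + 1}) : EtCoh.Ab X :=
  (constantSheaf X.smallEtaleTopology AddCommGrpCat.{u + 1}).obj M

/-- Constants as sections of the constant sheaf. -/
def csec (M : AddCommGrpCat.{u + 1}) (U : X.Etale) : M →+ EtCoh.sect (cst X M) U :=
  ((toSheafify X.smallEtaleTopology ((Functor.const X.Etaleᵒᵖ).obj M)).app (op U)).hom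

theorem res_csec (M : AddCommGrpCat.{u + 1}) {U V : X.Etale} (g : V ⟶ U) (m : M) :
    (cst X M).obj.map g.op (csec M U m) = csec M V m :=
  (NatTrans.naturality_apply (toSheafify X.smallEtaleTopology ((Functor.const X.Etaleᵒᵖ).obj M)) g.op m).symm

theorem eq_zero_of_germ_csec (M : AddCommGrpCat.{u + 1}) {Ω : Type u} [Field Ω] [IsSepClosed Ω]
    (η : Spec (CommRingCat.of Ω) ⟶ X) (U : X.Etale) (p : (Scheme.pointSmallEtale η).fiber.obj U) (m : M)
    (h : germ (cst X M) η U p (csec M U m) = 0) : m = 0 := by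
  obtain ⟨W, g, hg, w, -⟩ := (germ_eq_iff (cst X M) η U p (csec M U m) 0).1 (h.trans (map_zero _).symm)
  rw [map_zero, res_csec] at hg
  have hS := Presheaf.equalizerSieve_mem X.smallEtaleTopology
    (toSheafify X.smallEtaleTopology ((Functor.const X.Etaleᵒᵖ).obj M)) (X := op W) m 0
    (hg.trans (map_zero _).symm)
  obtain ⟨V, k, hk, -⟩ := (mem_topology_iff _).1 hS w
  exact hk

/-- The map from a constant sheaf given by global sections. -/
def constMap {M : AddCommGrpCat.{u + 1}} (F : EtCoh.Ab X) (φ : M →+ EtCoh.sect F (EtCoh.top X)) : cst X M ⟶ F :=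
  ((sheafificationAdjunction X.smallEtaleTopology AddCommGrpCat.{u + 1}).homEquiv _ _).symm
    { app := fun W => AddCommGrpCat.ofHom
        ((F.obj.map ((EtCore.topIsTerminal X).from W.unop).op).hom.comp φ)
      naturality := fun W W' g => by
        ext m
        change F.obj.map ((EtCore.topIsTerminal X).from W'.unop).op (φ m) =
          F.obj.map g (F.obj.map ((EtCore.topIsTerminal X).from W.unop).op (φ m))
        rw [← ConcreteCategory.comp_apply, ← Functor.map_comp]
        exact congrArg (fun r => F.obj.map r (φ m)) (Quiver.Hom.unop_inj ((EtCore.topIsTerminal X).hom_ext _ _)) }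

theorem isIso_constMap {M : AddCommGrpCat.{u + 1}} (F : EtCoh.Ab X) (φ : M →+ EtCoh.sect F (EtCoh.top X))
    (h : ∀ (Ω : Type u) [Field Ω] [IsSepClosed Ω] (η : Spec (CommRingCat.of Ω) ⟶ X)
      (p : (Scheme.pointSmallEtale η).fiber.obj (EtCoh.top X)),
      Function.Bijective fun m => germ F η (EtCoh.top X) p (φ m)) : IsIso (constMap F φ) := by
  let J := X.smallEtaleTopology
  let τ : (Functor.const X.Etaleᵒᵖ).obj M ⟶ F.obj :=
    { app := fun W => AddCommGrpCat.ofHom
        ((F.obj.map ((EtCore.topIsTerminal X).from W.unop).op).hom.comp φ)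
      naturality := fun W W' g => by
        ext m
        change F.obj.map ((EtCore.topIsTerminal X).from W'.unop).op (φ m) =
          F.obj.map g (F.obj.map ((EtCore.topIsTerminal X).from W.unop).op (φ m))
        rw [← ConcreteCategory.comp_apply, ← Functor.map_comp]
        exact congrArg (fun r => F.obj.map r (φ m)) (Quiver.Hom.unop_inj ((EtCore.topIsTerminal X).hom_ext _ _)) }
  haveI hinj : Presheaf.IsLocallyInjective J τ := by
    refine ⟨fun {W} m m' hm => (mem_topology_iff _).2 fun w => ?_⟩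
    obtain ⟨p, -⟩ := exists_fiber_geomPoint W.unop w
    have hmm : m = m' := (h _ _ ((Scheme.pointSmallEtale _).fiber.map ((EtCore.topIsTerminal X).from W.unop) p)).1 (by
      change germ F _ _ _ (φ m) = germ F _ _ _ (φ m')
      rw [← germ_map, ← germ_map]
      exact congrArg _ hm)
    subst hmm
    exact ⟨W.unop, 𝟙 _, rfl, w, rfl⟩
  haveI hsurj : Presheaf.IsLocallySurjective J τ := by
    refine ⟨fun {W} s => (mem_topology_iff _).2 fun w => ?_⟩
    obtain ⟨p, hp⟩ := exists_fiber_geomPoint W w
    obtain ⟨m, hm⟩ := (h _ _ ((Scheme.pointSmallEtale _).fiber.map ((EtCore.topIsTerminal X).from W) p)).2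
      (germ F _ W p s)
    have hm' : germ F _ W p (F.obj.map ((EtCore.topIsTerminal X).from W).op (φ m)) = germ F _ W p s := by
      rw [germ_map]; exact hm
    obtain ⟨V, g, hV, hmem⟩ := (germ_eq_iff F _ W p _ _).1 hm'
    refine ⟨V, g, ⟨m, ?_⟩, ?_⟩
    · refine Eq.trans ?_ hV
      change F.obj.map ((EtCore.topIsTerminal X).from V).op (φ m) = _
      rw [← ConcreteCategory.comp_apply, ← Functor.map_comp]
      exact congrArg (fun r => F.obj.map r (φ m)) (Quiver.Hom.unop_inj ((EtCore.topIsTerminal X).hom_ext _ _))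
    · obtain ⟨v, hv⟩ := hmem
      exact ⟨v, hv.trans hp⟩
  have hW : J.W τ := (J.W_iff_isLocallyBijective τ).2 ⟨hinj, hsurj⟩
  haveI : IsIso ((presheafToSheaf J AddCommGrpCat.{u + 1}).map τ) := (J.W_iff τ).1 hW
  have hχ : constMap F φ = (presheafToSheaf J AddCommGrpCat.{u + 1}).map τ ≫
      (sheafificationAdjunction J AddCommGrpCat.{u + 1}).counit.app F := Adjunction.homEquiv_counit ..
  rw [hχ]
  exact IsIso.comp_isIso' this inferInstance

/-- Charts from trivializations. -/
theorem exists_chart {F : EtCoh.Ab X} {U : X.Etale} {M : AddCommGrpCat.{u + 1}}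
    (e : EtCoh.restr F U ≅ (constantSheaf (X.smallEtaleTopology.over U) AddCommGrpCat.{u + 1}).obj M) :
    ∃ φ : M →+ EtCoh.sect F U, ∀ (Ω : Type u) [Field Ω] [IsSepClosed Ω] (η : Spec (CommRingCat.of Ω) ⟶ X)
      (p : (Scheme.pointSmallEtale η).fiber.obj U), Function.Bijective fun m => germ F η U p (φ m) := by
  let J := X.smallEtaleTopology.over U
  let P : (Over U)ᵒᵖ ⥤ AddCommGrpCat.{u + 1} := (Functor.const _).obj M
  let η₀ : P ⟶ ((constantSheaf J AddCommGrpCat.{u + 1}).obj M).obj := toSheafify J P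
  let τ : P ⟶ (EtCoh.restr F U).obj := η₀ ≫ e.inv.hom
  haveI : IsIso e.inv.hom := inferInstanceAs (IsIso ((sheafToPresheaf _ _).map e.inv))
  haveI : Sheaf.IsLocallySurjective e.inv := inferInstance
  haveI : Sheaf.IsLocallyInjective e.inv := inferInstance
  haveI hsurj : Presheaf.IsLocallySurjective J τ := by
    haveI : Presheaf.IsLocallySurjective J η₀ :=
      inferInstanceAs (Presheaf.IsLocallySurjective J (toSheafify J P))
    exact Presheaf.isLocallySurjective_comp J η₀ e.inv.hom
  haveI hinj : Presheaf.IsLocallyInjective J τ := by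
    haveI : Presheaf.IsLocallyInjective J η₀ :=
      inferInstanceAs (Presheaf.IsLocallyInjective J (toSheafify J P))
    exact Presheaf.isLocallyInjective_comp J η₀ e.inv.hom
  let φ : M →+ EtCoh.sect F U := (τ.app (op (Over.mk (𝟙 U)))).hom
  have hφ : ∀ {V : X.Etale} (g : V ⟶ U) (m : M), τ.app (op (Over.mk g)) m = F.obj.map g.op (φ m) :=
    fun {V} g m => ConcreteCategory.congr_hom
      (τ.naturality (Over.homMk g : Over.mk g ⟶ Over.mk (𝟙 U)).op) m
  refine ⟨φ, fun Ω _ _ η p => ⟨fun m m' hm => ?_, fun z => ?_⟩⟩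
  · obtain ⟨V, g, hV, v, -⟩ := (germ_eq_iff F η U p _ _).1 hm
    have hS : Sieve.overEquiv _ (Presheaf.equalizerSieve (F := P) (X := op (Over.mk g)) m m') ∈
        X.smallEtaleTopology V :=
      (GrothendieckTopology.mem_over_iff _ (Presheaf.equalizerSieve (F := P)
          (X := op (Over.mk g)) m m')).1
        (Presheaf.equalizerSieve_mem J τ (X := op (Over.mk g)) m m'
          ((hφ g m).trans (hV.trans (hφ g m').symm)))
    obtain ⟨W, k, hk, -⟩ := (mem_topology_iff _).1 hS v
    exact (Sieve.overEquiv_iff _ _).1 hk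
  · obtain ⟨V₀, q₀, s₀, rfl⟩ := exists_germ F z
    obtain ⟨V, a, b, q, hq, hq'⟩ := Groth.Agent.H88.EtMod.LocConst.exists_min p q₀
    have hz : germ F η V₀ q₀ s₀ = germ F η V q (F.obj.map b.op s₀) := by rw [germ_map, hq']
    have hS : Sieve.overEquiv _ (Presheaf.imageSieve τ (U := Over.mk a) (F.obj.map b.op s₀)) ∈
        X.smallEtaleTopology V :=
      (GrothendieckTopology.mem_over_iff _ _).1
        (Presheaf.imageSieve_mem J τ (U := op (Over.mk a)) (F.obj.map b.op s₀))
    obtain ⟨W, k, hk, w, hw⟩ := (mem_topology_iff _).1 hS (fiberPt q)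
    obtain ⟨r, hr, -⟩ := Fiber.exists_fiber_map η k q w hw
    obtain ⟨m, hm⟩ := (Sieve.overEquiv_iff _ _).1 hk
    refine ⟨m, ?_⟩
    have h1 : F.obj.map (k ≫ a).op (φ m) = F.obj.map k.op (F.obj.map b.op s₀) := (hφ (k ≫ a) m).symm.trans hm
    have h2 := congrArg (germ F η W r) h1
    rw [germ_map, germ_map, Functor.map_comp, ConcreteCategory.comp_apply, hr, hq] at h2
    exact h2.trans hz.symm

section strict

variable (R : Type u) [CommRing R] [IsLocalRing R] [HenselianLocalRing R]
  [IsSepClosed (IsLocalRing.ResidueField R)]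

theorem cpt_base : (StrictHens.cpt R).base default = IsLocalRing.closedPoint R := by
  rw [Subsingleton.elim (default : Spec (CommRingCat.of (IsLocalRing.ResidueField R)))
    (IsLocalRing.closedPoint _)]
  exact IsLocalRing.comap_closedPoint (IsLocalRing.residue R)

theorem germ_top_bijective (F : EtCoh.Ab (Spec (CommRingCat.of R))) :
    Function.Bijective (germ F (StrictHens.cpt R) (EtCoh.top _) (StrictHens.topPt R)) :=
  StrictHens.toPresheafFiber_top_bijective R F.obj

/-- Global sections of a constant sheaf are the constants. -/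
theorem csec_bijective (M : AddCommGrpCat.{u + 1}) :
    Function.Bijective (csec (X := Spec (CommRingCat.of R)) M (EtCoh.top _)) := by
  refine ⟨(injective_iff_map_eq_zero _).2 fun m hm => eq_zero_of_germ_csec M (StrictHens.cpt R) _
    (StrictHens.topPt R) m (by rw [hm, map_zero]), fun s => ?_⟩
  have hS := Presheaf.imageSieve_mem (Spec (CommRingCat.of R)).smallEtaleTopology
    (toSheafify (Spec (CommRingCat.of R)).smallEtaleTopology ((Functor.const _).obj M)) (U := op (EtCoh.top _)) s
  obtain ⟨W, g, ⟨m, hm⟩, w, hw⟩ := (mem_topology_iff _).1 hS (IsLocalRing.closedPoint R)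
  obtain ⟨q, -, -⟩ := Fiber.exists_fiber_map (StrictHens.cpt R) g (StrictHens.topPt R) w
    (hw.trans (cpt_base R).symm)
  obtain ⟨σ, -⟩ := StrictHens.exists_section R W q
  refine ⟨m, ?_⟩
  have h := congrArg ((cst _ M).obj.map σ.op) hm
  change (cst _ M).obj.map σ.op (csec M W m) = (cst _ M).obj.map σ.op ((cst _ M).obj.map g.op s) at h
  rw [res_csec, ← ConcreteCategory.comp_apply, ← Functor.map_comp] at h
  refine h.trans ((congrArg (fun r => (cst _ M).obj.map r s) (?_ : g.op ≫ σ.op = 𝟙 _)).trans ?_)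
  · exact Quiver.Hom.unop_inj ((EtCore.topIsTerminal _).hom_ext _ _)
  · rw [CategoryTheory.Functor.map_id]; rfl

/-- A locally constant sheaf is the constant sheaf of its global sections. -/
theorem nonempty_iso (F : EtCoh.Ab (Spec (CommRingCat.of R))) (hF : EtRest.IsLocallyConstant F) :
    Nonempty (cst _ (AddCommGrpCat.of (EtCoh.sect F (EtCoh.top (Spec (CommRingCat.of R))))) ≅ F) := by
  obtain ⟨ι, U, hU, hc⟩ := hF
  obtain ⟨i, v, hv⟩ := hU (IsLocalRing.closedPoint R)
  obtain ⟨M, _, ⟨e⟩⟩ := hc i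
  obtain ⟨φ, hφ⟩ := exists_chart e
  obtain ⟨p, -⟩ := exists_fiber (StrictHens.cpt R) (U i) v (hv.trans (cpt_base R).symm)
  obtain ⟨σ, -⟩ := StrictHens.exists_section R (U i) p
  let ψ : M →+ EtCoh.sect F (EtCoh.top (Spec (CommRingCat.of R))) := (F.obj.map σ.op).hom.comp φ
  have hψ : ∀ (Ω : Type u) [Field Ω] [IsSepClosed Ω] (η : Spec (CommRingCat.of Ω) ⟶ Spec (CommRingCat.of R))
      (p : (Scheme.pointSmallEtale η).fiber.obj (EtCoh.top _)),
      Function.Bijective fun m => germ F η (EtCoh.top _) p (ψ m) := by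
    intro Ω _ _ η p
    convert hφ Ω η ((Scheme.pointSmallEtale η).fiber.map σ p) using 1
    funext m
    exact germ_map F η σ p (φ m)
  have hψb : Function.Bijective ψ :=
    (Function.Bijective.of_comp_iff' (germ_top_bijective R F) ψ).1 (hψ _ (StrictHens.cpt R) (StrictHens.topPt R))
  haveI := isIso_constMap (M := AddCommGrpCat.of (EtCoh.sect F (EtCoh.top (Spec (CommRingCat.of R))))) F
    (AddMonoidHom.id _) fun Ω _ _ η p => (Function.Bijective.of_comp_iff _ hψb).1 (hψ Ω η p)
  exact ⟨asIso (constMap F (AddMonoidHom.id _))⟩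

end strict

end Groth.Agent.Lib.LCStrict50.Const
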